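import Mathlib
import Cfsg.Prelude.Def_Classical

set_option autoImplicit false
set_option linter.unusedSectionVars false
set_option linter.unusedVariables false
set_option linter.unusedSimpArgs false

/-! # S5320 (the 2-fusion system of `PSp₄(q)`, `q` odd, is simple): the model (driver helper26)

`L F = SL₂(F)`, `Gt F = Sp₄(F)` (Mathlib's `Matrix.symplecticGroup (Fin 2) F`: matrices over `Fin 2 ⊕ Fin 2`,
`J = fromBlocks 0 (-1) 1 0`; the hyperbolic planes are `P_i = ⟨e_(inl i), e_(inr i)⟩`, `i : Fin 2`).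
A `4 × 4` matrix is `fromBlocks A B C D` with `A B C D : M2 F` indexed by the PLANE index; the Sum side is the PAIR index.
* `K u h` (Kronecker product): `u : M2 F` acts on the pair index, `h : M2 F` on the plane index;
  `K u h * K u' h' = K (u * u') (h * h')`, `K u h ∈ Sp₄ ↔ det u • (hᵀ * h) = 1`.
* `embM u v`: `u` on the plane `0`, `v` on the plane `1`; `emb : L F × L F →* Gt F`.
* `sig = K 1 swap`: exchanges the two planes; `W = emb (L × L) ⟨sig⟩ = SL₂ ≀ 2` has odd index in `Sp₄(q)`.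
* `zG = -1`, `t1 = emb (-1, 1)`.
* `Bs Q = emb (Q × Q)`, `SW Q = Bs Q ⊔ ⟨sig⟩ = Q ≀ 2` for `Q ≤ L F`: a Sylow 2-subgroup of `Sp₄(q)` when `Q` is one of `SL₂(q)`. -/

namespace Cfsg.Agent.S5320P

open Matrix

variable {F : Type*} [Field F]

/-- `SL₂(F)` -/
abbrev L (F : Type*) [Field F] : Type _ := Matrix.SpecialLinearGroup (Fin 2) F
/-- `Sp₄(F)` -/
abbrev Gt (F : Type*) [Field F] : Type _ := ↥(Matrix.symplecticGroup (Fin 2) F)
/-- `2 × 2` matrices -/
abbrev M2 (F : Type*) : Type _ := Matrix (Fin 2) (Fin 2) F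
/-- `4 × 4` matrices -/
abbrev M4 (F : Type*) : Type _ := Matrix (Fin 2 ⊕ Fin 2) (Fin 2 ⊕ Fin 2) F

/-- Kronecker product: `u` on the pair index, `h` on the plane index -/
def K (u h : M2 F) : M4 F := Matrix.fromBlocks (u 0 0 • h) (u 0 1 • h) (u 1 0 • h) (u 1 1 • h)

/-- `u` on the plane `0`, `v` on the plane `1` -/
def embM (u v : M2 F) : M4 F :=
  Matrix.fromBlocks (Matrix.diagonal ![u 0 0, v 0 0]) (Matrix.diagonal ![u 0 1, v 0 1])
    (Matrix.diagonal ![u 1 0, v 1 0]) (Matrix.diagonal ![u 1 1, v 1 1])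

/-- the exchange of the two planes -/
def swapM : M2 F := !![0, 1; 1, 0]

theorem K_mul (u h u' h' : M2 F) : K u h * K u' h' = K (u * u') (h * h') := by
  unfold K
  rw [Matrix.fromBlocks_multiply]
  congr 1 <;>
  · simp only [Matrix.smul_mul, Matrix.mul_smul, smul_smul, ← add_smul, Matrix.mul_apply,
      Fin.sum_univ_two]
    congr 1
    ring

theorem K_one : K (1 : M2 F) (1 : M2 F) = 1 := by
  unfold K
  simp [Matrix.fromBlocks_one]

theorem K_add_left (u u' h : M2 F) : K (u + u') h = K u h + K u' h := by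
  unfold K
  rw [Matrix.fromBlocks_add]
  simp only [Matrix.add_apply, add_smul]

theorem K_add_right (u h h' : M2 F) : K u (h + h') = K u h + K u h' := by
  unfold K
  rw [Matrix.fromBlocks_add]
  simp only [smul_add]

theorem K_smul_left (c : F) (u h : M2 F) : K (c • u) h = c • K u h := by
  unfold K
  rw [Matrix.fromBlocks_smul]
  simp only [Matrix.smul_apply, smul_eq_mul, mul_smul]

theorem K_smul_right (c : F) (u h : M2 F) : K u (c • h) = c • K u h := by
  unfold K
  rw [Matrix.fromBlocks_smul]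
  simp only [smul_comm c]

theorem K_transpose (u h : M2 F) : (K u h)ᵀ = K uᵀ hᵀ := by
  unfold K
  rw [Matrix.fromBlocks_transpose]
  simp only [Matrix.transpose_smul, Matrix.transpose_apply]

theorem K_mem_iff (u h : M2 F) :
    K u h ∈ Matrix.symplecticGroup (Fin 2) F ↔ u.det • (hᵀ * h) = 1 := by
  unfold K
  rw [SymplecticGroup.fromBlocks_mem_iff]
  simp only [Matrix.transpose_smul, Matrix.smul_mul, Matrix.mul_smul, smul_smul, ← sub_smul,
    Matrix.det_fin_two]
  constructor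
  · rintro ⟨-, -, h3⟩
    rw [← h3]
    congr 1
    ring
  · intro h3
    refine ⟨by rw [mul_comm], by rw [mul_comm], ?_⟩
    rw [← h3]
    congr 1
    ring

theorem embM_mul (u v u' v' : M2 F) : embM u v * embM u' v' = embM (u * u') (v * v') := by
  unfold embM
  rw [Matrix.fromBlocks_multiply]
  congr 1 <;>
  · ext i j
    fin_cases i <;> fin_cases j <;>
      simp [Matrix.mul_apply, Fin.sum_univ_two, Matrix.diagonal_apply]

theorem embM_one : embM (1 : M2 F) (1 : M2 F) = 1 := by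
  unfold embM
  rw [← Matrix.fromBlocks_one]
  congr 1 <;>
  · ext i j
    fin_cases i <;> fin_cases j <;> simp [Matrix.diagonal_apply, Matrix.one_apply]

theorem embM_mem {u v : M2 F} (hu : u.det = 1) (hv : v.det = 1) :
    embM u v ∈ Matrix.symplecticGroup (Fin 2) F := by
  unfold embM
  rw [SymplecticGroup.fromBlocks_mem_iff]
  rw [Matrix.det_fin_two] at hu hv
  refine ⟨?_, ?_, ?_⟩
  · ext i j
    fin_cases i <;> fin_cases j <;>
      simp [Matrix.mul_apply, Fin.sum_univ_two, Matrix.diagonal_apply, mul_comm]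
  · ext i j
    fin_cases i <;> fin_cases j <;>
      simp [Matrix.mul_apply, Fin.sum_univ_two, Matrix.diagonal_apply, mul_comm]
  · ext i j
    fin_cases i <;> fin_cases j <;>
      simp [Matrix.mul_apply, Fin.sum_univ_two, Matrix.diagonal_apply, Matrix.one_apply]
    · linear_combination hu
    · linear_combination hv

/-- the embedding `SL₂ × SL₂ → Sp₄` -/
def emb : L F × L F →* Gt F where
  toFun x := ⟨embM (x.1 : M2 F) (x.2 : M2 F), embM_mem x.1.2 x.2.2⟩
  map_one' := by
    apply Subtype.ext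
    exact embM_one
  map_mul' x y := by
    apply Subtype.ext
    show embM ((x.1 * y.1 : L F) : M2 F) ((x.2 * y.2 : L F) : M2 F) = _
    rw [Matrix.SpecialLinearGroup.coe_mul, Matrix.SpecialLinearGroup.coe_mul, ← embM_mul]
    rfl

theorem emb_val (x : L F × L F) : ((emb x : Gt F) : M4 F) = embM (x.1 : M2 F) (x.2 : M2 F) := rfl

theorem swapM_mem : K (1 : M2 F) (swapM : M2 F) ∈ Matrix.symplecticGroup (Fin 2) F := by
  rw [K_mem_iff, Matrix.det_one, one_smul]
  unfold swapM
  ext i j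
  fin_cases i <;> fin_cases j <;> simp [Matrix.mul_apply, Fin.sum_univ_two, Matrix.one_apply]

/-- the element exchanging the two planes -/
def sig : Gt F := ⟨K (1 : M2 F) (swapM : M2 F), swapM_mem⟩

theorem sig_val : ((sig : Gt F) : M4 F) = K (1 : M2 F) (swapM : M2 F) := rfl

/-- the central involution `-1` of `Sp₄` -/
def zG : Gt F := ⟨-1, SymplecticGroup.neg_mem (Submonoid.one_mem _)⟩

theorem zG_val : ((zG : Gt F) : M4 F) = -1 := rfl

/-- `-1` on the plane `0`, `1` on the plane `1` -/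
def t1 : Gt F := emb (-1, 1)

/-- the base group `Q × Q` -/
def Bs (Q : Subgroup (L F)) : Subgroup (Gt F) := (Q.prod Q).map emb

/-- the wreath product `Q ≀ 2` -/
def SW (Q : Subgroup (L F)) : Subgroup (Gt F) := Bs Q ⊔ Subgroup.zpowers sig

/-- `h` is a `2`-element -/
def IsTwoElt {G : Type*} [Group G] (h : G) : Prop := ∃ k : ℕ, orderOf h = 2 ^ k

/-! ### the explicit quaternion group `Q₈ = ⟨i, j⟩ ≤ SL₂(F)` attached to `a² + b² = -1` -/

/-- the matrix of `i` -/
def qiM (a b : F) : M2 F := !![a, b; b, -a]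
/-- the matrix of `j` (also the rotation `r = swap * diag(-1, 1)` of the plane index) -/
def qjM : M2 F := !![0, 1; -1, 0]
/-- the matrix of `k = i j` -/
def qkM (a b : F) : M2 F := !![-b, a; a, b]
/-- the matrix of `y = (1 - i + j + k) / 2` -/
def qyM (a b : F) : M2 F := (2 : F)⁻¹ • !![1 - a - b, 1 + a - b; a - b - 1, 1 + a + b]
/-- `(1 + r) / 2`: a similitude of the plane index with `hᵀ h = 1/2` -/
def hM : M2 F := (2 : F)⁻¹ • !![1, 1; -1, 1]

theorem qiM_det {a b : F} (hab : a ^ 2 + b ^ 2 = -1) : (qiM a b).det = 1 := by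
  rw [qiM, Matrix.det_fin_two_of]
  linear_combination -hab

theorem qjM_det : (qjM : M2 F).det = 1 := by
  rw [qjM, Matrix.det_fin_two_of]
  ring

theorem qkM_det {a b : F} (hab : a ^ 2 + b ^ 2 = -1) : (qkM a b).det = 1 := by
  rw [qkM, Matrix.det_fin_two_of]
  linear_combination -hab

theorem qyM_det {a b : F} (hab : a ^ 2 + b ^ 2 = -1) (h2 : (2 : F) ≠ 0) : (qyM a b).det = 1 := by
  rw [qyM, Matrix.det_smul, Fintype.card_fin, Matrix.det_fin_two_of]
  field_simp
  linear_combination -2 * hab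

/-- `i` -/
def qi (a b : F) (hab : a ^ 2 + b ^ 2 = -1) : L F := ⟨qiM a b, qiM_det hab⟩
/-- `j` -/
def qj : L F := ⟨qjM, qjM_det⟩
/-- `k = i j` -/
def qk (a b : F) (hab : a ^ 2 + b ^ 2 = -1) : L F := ⟨qkM a b, qkM_det hab⟩
/-- `y = (1 - i + j + k) / 2`: an element of order `3` or `6` normalizing `Q₈` -/
def qy (a b : F) (hab : a ^ 2 + b ^ 2 = -1) (h2 : (2 : F) ≠ 0) : L F := ⟨qyM a b, qyM_det hab h2⟩

/-- the quaternion group `⟨i, j⟩` -/
def Q8 (a b : F) (hab : a ^ 2 + b ^ 2 = -1) : Subgroup (L F) := Subgroup.closure {qi a b hab, qj}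

/-- the group `Q₈ ∘ D₈ = 2^{1+4}_-`: generated by the diagonal `Q₈`, `t1` and `sig` -/
def Rt (a b : F) (hab : a ^ 2 + b ^ 2 = -1) : Subgroup (Gt F) :=
  Subgroup.closure ({x | ∃ c ∈ Q8 a b hab, x = emb (c, c)} ∪ {t1, sig})

theorem gEM_mem {u : M2 F} (hu : u.det = 2) (h2 : (2 : F) ≠ 0) :
    K u (hM : M2 F) ∈ Matrix.symplecticGroup (Fin 2) F := by
  rw [K_mem_iff, hu]
  unfold hM
  ext i j
  fin_cases i <;> fin_cases j <;>
    simp [Matrix.mul_apply, Fin.sum_univ_two, Matrix.one_apply] <;> field_simp <;> ring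

theorem one_add_qiM_det {a b : F} (hab : a ^ 2 + b ^ 2 = -1) : (1 + qiM a b).det = 2 := by
  rw [Matrix.det_fin_two]
  simp [qiM]
  linear_combination -hab

theorem one_add_qjM_det : (1 + qjM : M2 F).det = 2 := by
  rw [Matrix.det_fin_two]
  simp [qjM]
  ring

/-- the `2`-element `(1 + i) ⊗ (1 + r) / 2` of `N(Rt)` -/
def gE (a b : F) (hab : a ^ 2 + b ^ 2 = -1) (h2 : (2 : F) ≠ 0) : Gt F :=
  ⟨K (1 + qiM a b) hM, gEM_mem (one_add_qiM_det hab) h2⟩

/-- the `2`-element `(1 + j) ⊗ (1 + r) / 2` of `N(Rt)` -/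
def gE' (h2 : (2 : F) ≠ 0) : Gt F := ⟨K (1 + qjM) hM, gEM_mem one_add_qjM_det h2⟩

end Cfsg.Agent.S5320P
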