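import Mathlib
import Cfsg.Prelude.Def_Classical
import Cfsg.Prelude.Def_FusionComponents
import Cfsg.Agent.Helper26.S5320.Defs
import Cfsg.Agent.Helper25.S5320QINTERFACE
import Cfsg.Agent.Helper25.S5320QCENTRIC
import Cfsg.Agent.Helper26.PSL2Syl
import Cfsg.Agent.Helper11.S5320NEMB
import Cfsg.Agent.Helper15.S5320RMEM
import Cfsg.Agent.Helper15.S5320RNORMAL
import Cfsg.Agent.Helper16.S5320NW
import Cfsg.Agent.Helper16.S5320SC3
import Cfsg.Agent.Helper17.S5320GELA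
import Cfsg.Agent.Helper17.S5320SWCARD
import Cfsg.Agent.Helper18.S5320CONJT
import Cfsg.Agent.Helper18.S5320ORD4CONJ
import Cfsg.Agent.Helper18.S5320Q8MEM
import Cfsg.Agent.Helper20.S5320GELB
import Cfsg.Agent.Helper20.S5320QUATB
import Cfsg.Agent.Helper20.S5320RCENT
import Cfsg.Agent.Helper21.S5320NFORM
import Cfsg.Agent.Helper21.S5320ZZ2
import Cfsg.Agent.Helper22.S5320CENTQ
import Cfsg.Agent.Helper22.S5320SYLQ
import Cfsg.Agent.Helper23.S5320EMB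
import Cfsg.Agent.Helper23.S5320STAB
import Cfsg.Agent.Helper23.S5320SWMEM
import Cfsg.Agent.Helper24.S5320CENTER
import Cfsg.Agent.Helper24.S5320INVOL
import Cfsg.Agent.Helper25.S5320Q8NORM
import Cfsg.Agent.Helper26.S5320QUATA
import Cfsg.Agent.Helper3.S5320NORMQ
import Cfsg.Agent.Helper3.S5320SC1
import Cfsg.Agent.Helper6.S5320Q8SGN
import Cfsg.Agent.Helper9.S5320Q8SYL
import Cfsg.Agent.Helper9.S5320SYL

/-! # S5320: assembly (driver helper26).  See `departures/helper26_s5320_pieces.md`. -/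

set_option autoImplicit false
set_option linter.unusedSectionVars false
set_option linter.unusedVariables false

namespace Cfsg.Agent.S5320P

open Matrix

variable {F : Type*} [Field F]

namespace MAIN

/-- an element of a Sylow `2`-subgroup is a `2`-element -/
theorem isTwoElt_of_mem {G : Type*} [Group G] (P : Sylow 2 G) {g : G}
    (hg : g ∈ (P : Subgroup G)) : ∃ k : ℕ, orderOf g = 2 ^ k := by
  obtain ⟨k, hk⟩ := P.isPGroup' ⟨g, hg⟩
  have h1 : g ^ (2 ^ k) = 1 := by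
    have := congrArg Subtype.val hk
    simpa using this
  have h2 := orderOf_dvd_of_pow_eq_one h1
  obtain ⟨j, -, hj⟩ := (Nat.dvd_prime_pow Nat.prime_two).1 h2
  exact ⟨j, hj⟩

theorem neg_one_mul_neg_one : (-1 : L F) * (-1) = 1 := by
  rw [neg_mul_neg, one_mul]

theorem inv_sq_eq {c : L F} (hc : c * c = -1) : c⁻¹ * c⁻¹ = -1 := by
  have h1 : c⁻¹ * c⁻¹ = (c * c)⁻¹ := by group
  rw [h1, hc]
  exact inv_eq_of_mul_eq_one_right neg_one_mul_neg_one

theorem emb_mul (a b c d : L F) : (emb (a, b) : Gt F) * emb (c, d) = emb (a * c, b * d) := by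
  rw [← map_mul]
  rfl

theorem emb_inv (a b : L F) : (emb (a, b) : Gt F)⁻¹ = emb (a⁻¹, b⁻¹) := by
  rw [← map_inv]
  rfl

theorem emb_one_one : (emb ((1 : L F), (1 : L F)) : Gt F) = 1 := by
  have : ((1 : L F), (1 : L F)) = (1 : L F × L F) := rfl
  rw [this, map_one]

theorem zG_mul_self : (zG : Gt F) * zG = 1 := by
  apply Subtype.ext
  show (-1 : M4 F) * (-1) = 1
  rw [neg_mul_neg, one_mul]

theorem isPGroup_center : IsPGroup 2 (Subgroup.center (Gt F)) := by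
  rintro ⟨g, hg⟩
  refine ⟨1, ?_⟩
  apply Subtype.ext
  show g ^ 2 ^ 1 = 1
  rw [pow_one, pow_two]
  rcases (mem_center_iff g).1 hg with h | h
  · rw [h, one_mul]
  · rw [h, zG_mul_self]

/-! ### (a) no strongly closed subgroup -/

theorem sclosed [Fintype F] (hodd : Fintype.card F % 2 = 1) (h2 : (2 : F) ≠ 0) (Q : Sylow 2 (L F))
    (T : Subgroup (Gt F)) (hZT : Subgroup.center (Gt F) ≤ T) (hT : T ≤ SW (Q : Subgroup (L F)))
    (hsc : ∀ t ∈ T, ∀ g : Gt F, g * t * g⁻¹ ∈ SW (Q : Subgroup (L F)) → g * t * g⁻¹ ∈ T) :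
    T = Subgroup.center (Gt F) ∨ T = SW (Q : Subgroup (L F)) := by
  by_cases hne : T = Subgroup.center (Gt F)
  · exact Or.inl hne
  right
  refine le_antisymm hT ?_
  have hn : ∀ t ∈ T, ∀ s ∈ SW (Q : Subgroup (L F)), s * t * s⁻¹ ∈ T := fun t ht s hs =>
    hsc t ht s (Subgroup.mul_mem _ (Subgroup.mul_mem _ hs (hT ht)) (Subgroup.inv_mem _ hs))
  have h1 := SC1.t1_mem hodd Q T hZT hT hn hne
  obtain ⟨hsig, hanti⟩ := SC2.anti_mem h2 (Q : Subgroup (L F)) T hsc h1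
  have h4 := SC3.ord4_mem hodd (Q : Subgroup (L F)) T hsc hanti
  obtain ⟨c, hcQ, hc⟩ := SYLQ.exists_ord4 hodd Q
  have hc' := inv_sq_eq hc
  -- `emb (1, q) ∈ T` for `q ∈ Q`
  let φ : L F →* Gt F := emb.comp (MonoidHom.inr (L F) (L F))
  have hφ : ∀ q : L F, φ q = emb (1, q) := fun q => rfl
  have hcl : Subgroup.closure {g : L F | ∃ x ∈ (Q : Subgroup (L F)),
      ∃ y ∈ (Q : Subgroup (L F)), x * x = -1 ∧ y * y = -1 ∧ g = x * y} ≤ T.comap φ := by
    rw [Subgroup.closure_le]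
    rintro g ⟨x, hx, y, hy, hxx, hyy, rfl⟩
    show φ (x * y) ∈ T
    rw [hφ]
    have e1 : (emb (1, x * y) : Gt F) = emb (c, x) * emb (c⁻¹, y) := by
      rw [emb_mul, mul_inv_cancel]
    rw [e1]
    exact T.mul_mem (h4 c hcQ x hx hc hxx) (h4 c⁻¹ (Subgroup.inv_mem _ hcQ) y hy hc' hyy)
  have hr : ∀ q ∈ (Q : Subgroup (L F)), (emb (1, q) : Gt F) ∈ T := fun q hq =>
    hcl (SYLQ.le_closure hodd Q hq)
  have hl : ∀ q ∈ (Q : Subgroup (L F)), (emb (q, 1) : Gt F) ∈ T := by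
    intro q hq
    rw [← sig_conj 1 q]
    exact T.mul_mem (T.mul_mem hsig (hr q hq)) (T.inv_mem hsig)
  have hab : ∀ a ∈ (Q : Subgroup (L F)), ∀ b ∈ (Q : Subgroup (L F)), (emb (a, b) : Gt F) ∈ T := by
    intro a ha b hb
    have e1 : (emb (a, b) : Gt F) = emb (a, 1) * emb (1, b) := by
      rw [emb_mul, mul_one, one_mul]
    rw [e1]
    exact T.mul_mem (hl a ha) (hr b hb)
  intro x hx
  obtain ⟨a, ha, b, hb, h | h⟩ := (mem_SW_iff _ x).1 hx
  · rw [h]; exact hab a ha b hb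
  · rw [h]; exact T.mul_mem (hab a ha b hb) hsig

/-! ### (b) the normalizer -/

/-- the generating set of `QINTERFACE.isSimple` -/
def GenSet (St : Subgroup (Gt F)) : Set (Gt F) :=
  {x : Gt F | x ∈ Subgroup.normalizer (St : Set (Gt F)) ∧
    ∃ Rt : Subgroup (Gt F), Subgroup.center (Gt F) ≤ Rt ∧ Rt ≤ St ∧
      (∀ c : Gt F, (∃ m : ℕ, c ^ (2 ^ m) = 1) →
        (∀ r ∈ Rt, c * r * c⁻¹ * r⁻¹ ∈ Subgroup.center (Gt F)) → c ∈ Rt) ∧
      x ∈ Subgroup.closure {h : Gt F | h ∈ Subgroup.normalizer (Rt : Set (Gt F)) ∧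
        ∃ k : ℕ, orderOf h = 2 ^ k}}

theorem mem_GenSet_of_mem (St : Sylow 2 (Gt F)) {x : Gt F} (hx : x ∈ (St : Subgroup (Gt F))) :
    x ∈ GenSet (St : Subgroup (Gt F)) := by
  have : Fact (Nat.Prime 2) := ⟨Nat.prime_two⟩
  have hZS : Subgroup.center (Gt F) ≤ (St : Subgroup (Gt F)) :=
    isPGroup_center.le_sylow_of_normal St
  have hxN : x ∈ Subgroup.normalizer ((St : Subgroup (Gt F)) : Set (Gt F)) :=
    Subgroup.le_normalizer hx
  refine ⟨hxN, (St : Subgroup (Gt F)), hZS, le_rfl, ?_, ?_⟩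
  · intro c hc hcomm
    exact QINTERFACE.centric_self 2 (Subgroup.center (Gt F)) St hZS c hc hcomm
  · exact Subgroup.subset_closure ⟨hxN, isTwoElt_of_mem St hx⟩

theorem hb_big [Fintype F] (hodd : Fintype.card F % 2 = 1) (h16 : 16 ∣ Fintype.card F ^ 2 - 1)
    (Q : Sylow 2 (L F)) (St : Sylow 2 (Gt F))
    (hSt : (St : Subgroup (Gt F)) = SW (Q : Subgroup (L F))) :
    ∀ g ∈ Subgroup.normalizer ((St : Subgroup (Gt F)) : Set (Gt F)),
      g ∈ Subgroup.closure (GenSet (St : Subgroup (Gt F))) := by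
  intro g hg
  apply Subgroup.subset_closure
  apply mem_GenSet_of_mem
  rw [hSt] at hg ⊢
  obtain ⟨u, hu, s, hs, rfl⟩ := NFORM.exists_eq hodd Q g hg
  have huQ := NORMQ.le hodd h16 Q hu
  refine Subgroup.mul_mem _ ?_ hs
  exact (mem_SW_iff _ _).2 ⟨u, huQ, u, huQ, Or.inl rfl⟩

theorem hb_small [Fintype F] (hodd : Fintype.card F % 2 = 1)
    (h16 : ¬ 16 ∣ Fintype.card F ^ 2 - 1) (h2 : (2 : F) ≠ 0) {a b : F}
    (hab : a ^ 2 + b ^ 2 = -1) (Q : Sylow 2 (L F))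
    (hQ : (Q : Subgroup (L F)) = Q8 a b hab) (St : Sylow 2 (Gt F))
    (hSt : (St : Subgroup (Gt F)) = SW (Q : Subgroup (L F))) :
    ∀ g ∈ Subgroup.normalizer ((St : Subgroup (Gt F)) : Set (Gt F)),
      g ∈ Subgroup.closure (GenSet (St : Subgroup (Gt F))) := by
  intro g hg
  have hmem : ∀ x ∈ (St : Subgroup (Gt F)),
      x ∈ Subgroup.closure (GenSet (St : Subgroup (Gt F))) := fun x hx =>
    Subgroup.subset_closure (mem_GenSet_of_mem St hx)
  -- `emb (y, y)` is a generator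
  have hy : (emb (qy a b hab h2, qy a b hab h2) : Gt F) ∈
      Subgroup.closure (GenSet (St : Subgroup (Gt F))) := by
    apply Subgroup.subset_closure
    refine ⟨?_, Rt a b hab, RNORMAL.center_le h2 hab, ?_, ?_, ?_⟩
    · rw [hSt, hQ]
      exact NEMB.mem_normalizer _ _ (Q8NORM.qy_mem h2 hab)
    · rw [hSt, hQ]
      exact RNORMAL.le_SW h2 hab
    · intro c _ hcomm
      exact RCENT.mem h2 hab c hcomm
    · have e1 : (emb (qy a b hab h2, qy a b hab h2) : Gt F) = gE' h2 * (gE a b hab h2)⁻¹ := by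
        rw [GELA.eq_mul h2 hab, mul_inv_cancel_right]
      rw [e1]
      obtain ⟨hn1, hn2⟩ := GELB.mem_normalizer h2 hab
      obtain ⟨ht1, ht2⟩ := GELA.isTwoElt h2 hab
      exact Subgroup.mul_mem _ (Subgroup.subset_closure ⟨hn2, ht2⟩)
        (Subgroup.inv_mem _ (Subgroup.subset_closure ⟨hn1, ht1⟩))
  have hg' := hg
  rw [hSt] at hg'
  obtain ⟨u, hu, s, hs, rfl⟩ := NFORM.exists_eq hodd Q g hg'
  rw [hQ] at hu
  have hsS : s ∈ (St : Subgroup (Gt F)) := by rw [hSt]; exact hs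
  refine Subgroup.mul_mem _ ?_ (hmem s hsS)
  obtain ⟨c, hc, h | h | h⟩ := Q8NORM.exists_eq hodd h16 h2 hab u hu
  all_goals
    have hcS : (emb (c, c) : Gt F) ∈ (St : Subgroup (Gt F)) := by
      rw [hSt, hQ]
      exact (mem_SW_iff _ _).2 ⟨c, hc, c, hc, Or.inl rfl⟩
  · rw [h]; exact hmem _ hcS
  · rw [h, ← emb_mul]
    exact Subgroup.mul_mem _ (hmem _ hcS) hy
  · rw [h, ← emb_mul, ← emb_mul]
    exact Subgroup.mul_mem _ (Subgroup.mul_mem _ (hmem _ hcS) hy) hy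

/-! ### the model -/

theorem exists_sq_add_sq [Fintype F] : ∃ a b : F, a ^ 2 + b ^ 2 = -1 := by
  have : NeZero (ringChar F) := ⟨CharP.ringChar_ne_zero_of_finite F⟩
  obtain ⟨a, b, hab⟩ := CharP.sq_add_sq F (ringChar F) (-1)
  refine ⟨(a : F), (b : F), ?_⟩
  rw [hab]
  push_cast
  rfl

theorem t1_mem_SW [Fintype F] (Q : Sylow 2 (L F)) : (t1 : Gt F) ∈ SW (Q : Subgroup (L F)) :=
  (mem_SW_iff _ _).2 ⟨-1, Cfsg.Agent.Helper26.PSL2Syl.neg_one_mem_sylow Q, 1, Subgroup.one_mem _,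
    Or.inl rfl⟩

theorem final [Fintype F] (hodd : Fintype.card F % 2 = 1) (S : Sylow 2 (Cfsg.PSp 2 F)) :
    (Cfsg.groupFusionSystem (S : Subgroup (Cfsg.PSp 2 F))).IsSimple 2 := by
  have : Fact (Nat.Prime 2) := ⟨Nat.prime_two⟩
  have h2 : (2 : F) ≠ 0 := Cfsg.Agent.Helper26.PSL2Syl.two_ne_zero' hodd
  -- the model
  have hmodel : ∃ (Q : Sylow 2 (L F)) (St : Sylow 2 (Gt F)),
      (St : Subgroup (Gt F)) = SW (Q : Subgroup (L F)) ∧
      ∀ g ∈ Subgroup.normalizer ((St : Subgroup (Gt F)) : Set (Gt F)),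
        g ∈ Subgroup.closure (GenSet (St : Subgroup (Gt F))) := by
    by_cases h16 : 16 ∣ Fintype.card F ^ 2 - 1
    · obtain ⟨Q⟩ : Nonempty (Sylow 2 (L F)) := inferInstance
      obtain ⟨St, hSt⟩ := SYL.exists_sylow hodd Q
      exact ⟨Q, St, hSt, hb_big hodd h16 Q St hSt⟩
    · obtain ⟨a, b, hab⟩ := exists_sq_add_sq (F := F)
      obtain ⟨Q, hQ⟩ := Q8SYL.exists_sylow hodd h16 hab
      obtain ⟨St, hSt⟩ := SYL.exists_sylow hodd Q
      exact ⟨Q, St, hSt, hb_small hodd h16 h2 hab Q hQ St hSt⟩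
  obtain ⟨Q, St, hSt, hb⟩ := hmodel
  have h1 : (St : Subgroup (Gt F)) ≠ Subgroup.center (Gt F) := by
    intro h
    apply t1_not_mem_center (F := F) h2
    rw [← h, hSt]
    exact t1_mem_SW Q
  have ha : ∀ Tt : Subgroup (Gt F), Subgroup.center (Gt F) ≤ Tt → Tt ≤ (St : Subgroup (Gt F)) →
      (∀ t ∈ Tt, ∀ g : Gt F, g * t * g⁻¹ ∈ (St : Subgroup (Gt F)) → g * t * g⁻¹ ∈ Tt) →
      Tt = Subgroup.center (Gt F) ∨ Tt = (St : Subgroup (Gt F)) := by
    intro Tt hZT hT hsc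
    rw [hSt] at hT hsc ⊢
    exact sclosed hodd h2 Q Tt hZT hT hsc
  exact QINTERFACE.isSimple 2 (Subgroup.center (Gt F)) le_rfl isPGroup_center St h1 ha hb S

end MAIN

end Cfsg.Agent.S5320P
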